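import Groth.Agent.ExtShX.TensorFree
import Groth.Agent.H23.PicMul
import Groth.Agent.H23.InvStalk

/-!
# Duals of invertible modules: inverse, and compatibility with pullback
-/

set_option autoImplicit false
set_option linter.style.haveILetI false
set_option backward.isDefEq.respectTransparency false
set_option backward.isDefEq.respectTransparency.types false

universe u

open CategoryTheory AlgebraicGeometry TopologicalSpace Opposite
open scoped Groth.Agent.H23.PicMul

namespace Groth.Agent.DualInvX

open RefHull (stalkMapₗ)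

variable {X Y : Scheme.{u}} (L : X.Modules)

/-- Multiplication by a scalar, as a section of the endomorphism sheaf. -/
noncomputable def scalarFun (U : X.Opens) : Γ(X, U) →+ Γ(RefHull.homSh L L, U) :=
  AddMonoidHom.mk' (fun a => a • RefHull.ofHom (𝟙 L) U) fun a b => add_smul a b _

theorem scalarFun_res {U V : X.Opens} (i : V ⟶ U) (a : Γ(X, U)) :
    scalarFun L V ((X.presheaf.map i.op).hom a) = (RefHull.homSh L L).presheaf.map i.op (scalarFun L U a) :=
  ((RefHull.homSh L L).map_smul i a (RefHull.ofHom (𝟙 L) U)).symm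

/-- Multiplication by scalars, as sections of the endomorphism sheaf. -/
noncomputable def scalarEnd : Coh.structureModule X ⟶ RefHull.homSh L L :=
  ⟨PresheafOfModules.homMk
    { app := fun U => AddCommGrpCat.ofHom (scalarFun L U.unop)
      naturality := fun {U V} i => by
        ext a
        exact scalarFun_res L i.unop a }
    (fun U r a => mul_smul (show Γ(X, U.unop) from r) (show Γ(X, U.unop) from a) (RefHull.ofHom (𝟙 L) U.unop))⟩

theorem evalStalk_scalarEnd (x : X) (r : X.presheaf.stalk x) :
    RefHull.evalStalk L L x (stalkMapₗ (scalarEnd L) x (RefX.unitStalk x r)) = r • LinearMap.id := by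
  obtain ⟨U, hU, a, rfl⟩ := TopCat.Presheaf.exists_germ_eq X.presheaf r
  rw [HomShX.unitStalk_germ hU a, RefHull.stalkMapₗ_germ, RefHull.evalStalk_germ]
  show X.presheaf.germ U x hU a • stalkMapₗ (𝟙 L) x = _
  rw [HomShX.stalkMapₗ_id]

variable {L}

theorem isIso_scalarEnd (hL : PicF.IsInvertible L) : IsIso (scalarEnd L) := by
  have hF := H23.PullPush.isFinLocFree_of_isInvertible hL
  refine KFlatLib.isIso_of_stalk _ fun x => ?_
  obtain ⟨e⟩ := H23.InvStalk.exists_stalk_equiv hL x
  refine (ConcreteCategory.isIso_iff_bijective _).2 ?_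
  show Function.Bijective (stalkMapₗ (scalarEnd L) x)
  refine (Function.Bijective.of_comp_iff _ (RefX.unitStalk x).bijective).1 ?_
  refine (Function.Bijective.of_comp_iff' (RefX.evalStalk_bijective (QCoh.isFP_of_isFinLocFree hF) x) _).1 ?_
  have : (⇑(RefHull.evalStalk L L x) ∘ ⇑(stalkMapₗ (scalarEnd L) x) ∘ ⇑(RefX.unitStalk x)) =
      fun r => r • LinearMap.id := funext fun r => evalStalk_scalarEnd L x r
  rw [this]
  refine ⟨fun a b h => ?_, fun φ => ⟨e (φ (e.symm 1)), LinearMap.ext fun v => ?_⟩⟩
  · have := congrArg e (LinearMap.congr_fun h (e.symm 1))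
    simpa using this
  · obtain ⟨c, rfl⟩ := e.symm.surjective v
    refine e.injective ?_
    have hc : e.symm c = c • e.symm 1 := by rw [← map_smul, smul_eq_mul, mul_one]
    rw [hc, map_smul φ]
    simp [mul_comm]

/-- The dual is the tensor inverse. -/
theorem nonempty_tensor_dual (hL : PicF.IsInvertible L) :
    Nonempty (CohB1.tensorMod L (RefHull.dual L) ≅ Coh.structureModule X) := by
  haveI := ExtShX.isIso_tenDualHom (H23.PullPush.isFinLocFree_of_isInvertible hL) L
  haveI := isIso_scalarEnd hL
  exact ⟨asIso (ExtShX.tenDualHom L L) ≪≫ (asIso (scalarEnd L)).symm⟩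

/-- Duals of invertible modules commute with pullback. -/
theorem nonempty_dual_pullback (f : Y ⟶ X) (hL : PicF.IsInvertible L) :
    Nonempty (RefHull.dual ((Scheme.Modules.pullback f).obj L) ≅
      (Scheme.Modules.pullback f).obj (RefHull.dual L)) := by
  have h1 : PicF.cl L * PicF.cl (RefHull.dual L) = 1 :=
    (PicGrp.cl_eq_cl_iff _ _).2 (nonempty_tensor_dual hL)
  have h2 : PicF.cl ((Scheme.Modules.pullback f).obj L) *
      PicF.cl (RefHull.dual ((Scheme.Modules.pullback f).obj L)) = 1 :=
    (PicGrp.cl_eq_cl_iff _ _).2 (nonempty_tensor_dual (PicClLib.isInvertible_pullback f hL))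
  have h3 : PicF.cl ((Scheme.Modules.pullback f).obj L) *
      PicF.cl ((Scheme.Modules.pullback f).obj (RefHull.dual L)) = 1 := by
    refine Eq.trans (H23.PicMul.pullCl_mul f (PicF.cl L) (PicF.cl (RefHull.dual L))).symm ?_
    rw [h1, H23.PicMul.pullCl_one]
  exact (PicGrp.cl_eq_cl_iff _ _).1 ((H23.PicMul.isUnit_cl (PicClLib.isInvertible_pullback f hL)).mul_left_cancel
    (h2.trans h3.symm))

end Groth.Agent.DualInvX
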